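import Mathlib
import Cfsg.Prelude.Def_Blocks
import Cfsg.Prelude.Def_Classical
import Cfsg.Agent.Lib.Helper79.ModP.Defs
import Cfsg.Agent.Lib.Helper79.Integrality
import Cfsg.Agent.Lib.Helper78.CharMore
import Cfsg.Agent.Lib.Helper81.IrrTwist
import Cfsg.Agent.Lib.Helper3.Integrality

/-!
# S4504 module [C-FULLAUT] (helper66)

`|P| = p`, `χ` faithful of degree `(p-1)/2`, `|N_L(P) : C_L(P)| = (p-1)/2`
⟹ `N_G(P) = N_L(P) C_G(P)`.
-/

set_option autoImplicit false
open Cfsg Cfsg.Agent.Lib.Helper79.ModP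
open scoped ComplexConjugate
universe u

namespace Cfsg.Agent.Lib.Helper66.S4504

/-- A character of degree `(p-1)/2` which is constant on the non-identity elements of a subgroup
of order `p` is constant on that subgroup. -/
theorem h66_const_on_prime_subgroup {G : Type u} [Group G] [Finite G] {p : ℕ}
    (hp5 : 5 ≤ p) (P : Subgroup G) (hP : Nat.card P = p)
    (χ : G → ℂ) (hχ : IsCharacter G χ) (hdeg : 2 * charDegree χ + 1 = p)
    (y0 : G) (hconst : ∀ y ∈ P, y ≠ 1 → χ y = χ y0) : χ y0 = χ 1 := by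
  classical
  have : Fintype P := Fintype.ofFinite P
  set d := charDegree χ with hd
  have hd2 : 2 ≤ d := by omega
  have hχ1 : χ 1 = (d : ℂ) := Cfsg.Agent.Lib.Helper78.IsCharacter.apply_one_eq_charDegree hχ
  -- the restriction to `P`
  have hψ : IsCharacter P (χ ∘ P.subtype) :=
    Cfsg.Agent.Lib.Helper81.isCharacter_comp hχ P.subtype
  obtain ⟨m1, hm1⟩ := Cfsg.Agent.Lib.Helper78.IsCharacter.exists_nat_classInner hψ
    ⟨fun _ => 1, Cfsg.Agent.Lib.Helper78.isIrrCharacter_one⟩
  -- the sum over `P`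
  have hsum : ∑ y : P, χ (y : G) = (d : ℂ) + ((p : ℂ) - 1) * χ y0 := by
    rw [← Finset.add_sum_erase Finset.univ (fun y : P => χ (y : G)) (Finset.mem_univ (1 : P))]
    rw [OneMemClass.coe_one, hχ1]
    congr 1
    have h1 : ∀ y ∈ (Finset.univ : Finset P).erase 1, χ (y : G) = χ y0 := by
      intro y hy
      exact hconst (y : G) y.2 (fun h => (Finset.mem_erase.mp hy).1 (Subtype.ext h))
    rw [Finset.sum_congr rfl h1]
    rw [Finset.sum_const, Finset.card_erase_of_mem (Finset.mem_univ _), Finset.card_univ,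
      ← Nat.card_eq_fintype_card, hP, nsmul_eq_mul, Nat.cast_sub (by omega), Nat.cast_one]
  have hinner : (p : ℂ) * (m1 : ℂ) = (d : ℂ) + ((p : ℂ) - 1) * χ y0 := by
    rw [← hsum, ← hm1]
    unfold classInner
    rw [hP]
    have hp0 : (p : ℂ) ≠ 0 := by
      have : p ≠ 0 := by omega
      exact_mod_cast this
    rw [← mul_assoc, mul_inv_cancel₀ hp0, one_mul]
    refine Finset.sum_congr rfl fun y _ => ?_
    simp
  -- `χ y0` is rational
  have hpc : (p : ℂ) = 2 * (d : ℂ) + 1 := by
    rw [← hdeg]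
    push_cast
    ring
  have hd0 : (d : ℂ) ≠ 0 := by
    have : d ≠ 0 := by omega
    exact_mod_cast this
  have hv : χ y0 = (((2 * (d : ℚ) + 1) * (m1 : ℚ) - (d : ℚ)) / (2 * (d : ℚ)) : ℚ) := by
    rw [hpc] at hinner
    push_cast
    field_simp
    linear_combination -hinner
  have hint : IsIntegral ℤ (χ y0) := Cfsg.Agent.Lib.Helper78.IsCharacter.isIntegral hχ y0
  rw [hv] at hint
  obtain ⟨z, hz⟩ := Cfsg.Agent.Lib.Helper3.exists_int_of_isIntegral_ratCast _ hint
  have hvz : χ y0 = (z : ℂ) := by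
    rw [hv, ← hz]
    simp
  -- the integer equation
  have hE : (2 * (d : ℤ) + 1) * (m1 : ℤ) = (d : ℤ) * (1 + 2 * z) := by
    have h1 : ((2 * (d : ℚ) + 1) * (m1 : ℚ) - (d : ℚ)) / (2 * (d : ℚ)) = (z : ℚ) := hz.symm
    have hdq : (d : ℚ) ≠ 0 := by
      have : d ≠ 0 := by omega
      exact_mod_cast this
    rw [div_eq_iff (by positivity)] at h1
    have h2 : ((2 * (d : ℤ) + 1) * (m1 : ℤ) : ℚ) = ((d : ℤ) * (1 + 2 * z) : ℤ) := by
      push_cast
      linear_combination h1
    exact_mod_cast h2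
  -- the norm bound
  have hnorm : ‖χ y0‖ ≤ (d : ℝ) := Cfsg.Agent.Lib.Helper79.isCharacter_norm_le hχ y0
  have hzb : |z| ≤ (d : ℤ) := by
    rw [hvz] at hnorm
    have h1 : ‖(z : ℂ)‖ = |(z : ℝ)| := by
      rw [← Complex.ofReal_intCast, Complex.norm_real, Real.norm_eq_abs]
    rw [h1] at hnorm
    have h2 : |(z : ℝ)| = ((|z| : ℤ) : ℝ) := by simp
    rw [h2] at hnorm
    exact_mod_cast hnorm
  have hz1 : -(d : ℤ) ≤ z := (abs_le.mp hzb).1
  have hz2 : z ≤ (d : ℤ) := (abs_le.mp hzb).2
  -- solve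
  set k : ℤ := 1 + 2 * z - 2 * (m1 : ℤ) with hk
  have hdpos : (0 : ℤ) < (d : ℤ) := by
    have : 0 < d := by omega
    exact_mod_cast this
  have hm1k : (m1 : ℤ) = (d : ℤ) * k := by
    rw [hk]
    linear_combination hE
  have hk2 : (2 * (d : ℤ) + 1) * k = 1 + 2 * z := by
    have h1 : (d : ℤ) * ((2 * (d : ℤ) + 1) * k) = (d : ℤ) * (1 + 2 * z) := by
      rw [← hE, hm1k]
      ring
    exact mul_left_cancel₀ hdpos.ne' h1
  have hk1 : k ≤ 1 := by nlinarith
  have hk0 : 0 ≤ k := by nlinarith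
  have hzd : z = (d : ℤ) := by
    interval_cases k
    · omega
    · omega
  rw [hvz, hχ1, hzd]
  simp

/-- In a group of prime order every non-identity element is the image of a given generator
under some automorphism. -/
theorem h66_exists_mulAut {P : Type*} [Group P] [Finite P] {p : ℕ} (hp : p.Prime)
    (hP : Nat.card P = p) (g0 : P) (hg0 : ∀ x : P, x ∈ Subgroup.zpowers g0)
    (y : P) (hy : y ≠ 1) : ∃ α : MulAut P, α g0 = y := by
  classical
  have hcyc : IsCyclic P := ⟨g0, hg0⟩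
  have hg01 : g0 ≠ 1 := by
    intro h
    apply hy
    have := hg0 y
    rw [h, Subgroup.zpowers_one_eq_bot, Subgroup.mem_bot] at this
    exact this
  have hAut : Nat.card (MulAut P) = p - 1 := by
    rw [IsCyclic.card_mulAut, hP, Nat.totient_prime hp]
  let e : MulAut P → P := fun α => α g0
  have he : Function.Injective e := by
    intro α β hαβ
    apply MulEquiv.ext
    intro x
    obtain ⟨k, rfl⟩ := Subgroup.mem_zpowers_iff.mp (hg0 x)
    rw [map_zpow, map_zpow]
    exact congrArg (· ^ k) hαβ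
  have hsub : Set.range e ⊆ (Set.univ \ {1} : Set P) := by
    rintro _ ⟨α, rfl⟩
    refine ⟨Set.mem_univ _, ?_⟩
    intro h
    rw [Set.mem_singleton_iff] at h
    apply hg01
    have h1 : α g0 = α 1 := by rw [map_one]; exact h
    exact α.injective h1
  have hc1 : (Set.range e).ncard = p - 1 := by
    rw [← Set.image_univ, Set.ncard_image_of_injective _ he, Set.ncard_univ, hAut]
  have hc2 : (Set.univ \ {1} : Set P).ncard = p - 1 := by
    rw [Set.ncard_sdiff_singleton_of_mem (Set.mem_univ _), Set.ncard_univ, hP]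
  have heq := Set.eq_of_subset_of_ncard_le hsub (by rw [hc1, hc2]) (Set.toFinite _)
  have h1 : y ∈ (Set.univ \ {1} : Set P) := ⟨Set.mem_univ _, hy⟩
  rw [← heq] at h1
  exact h1

theorem normalizer_eq_sup {G : Type u} [Group G] [Finite G] {p : ℕ} (hp : p.Prime) (hp5 : 5 ≤ p)
    (P : Sylow p G) (hP : Nat.card P = p)
    (χ : G → ℂ) (hχ : IsCharacter G χ) (hfaith : ∀ g : G, χ g = χ 1 → g = 1)
    (hdeg : 2 * charDegree χ + 1 = p)
    (L : Subgroup G)
    (hA2 : 2 * (Subgroup.centralizer ((P : Subgroup G) : Set G) ⊓ L).relIndex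
      (Subgroup.normalizer ((P : Subgroup G) : Set G) ⊓ L) + 1 = p) :
    Subgroup.normalizer ((P : Subgroup G) : Set G) =
      (Subgroup.normalizer ((P : Subgroup G) : Set G) ⊓ L) ⊔
        Subgroup.centralizer ((P : Subgroup G) : Set G) := by
  classical
  have : Fact p.Prime := ⟨hp⟩
  set N := Subgroup.normalizer ((P : Subgroup G) : Set G) with hN
  set C := Subgroup.centralizer ((P : Subgroup G) : Set G) with hC
  set d := charDegree χ with hd
  have hCN : C ≤ N := Subgroup.centralizer_le_normalizer _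
  let φ : N →* MulAut (P : Subgroup G) := Subgroup.normalizerMonoidHom (P : Subgroup G)
  have hker : φ.ker = C.subgroupOf N := Subgroup.normalizerMonoidHom_ker _
  have hcyc : IsCyclic (P : Subgroup G) := isCyclic_of_prime_card hP
  obtain ⟨g0, hg0⟩ := IsCyclic.exists_generator (α := (P : Subgroup G))
  have hAut : Nat.card (MulAut (P : Subgroup G)) = 2 * d := by
    rw [IsCyclic.card_mulAut, hP, Nat.totient_prime hp]
    omega
  -- the image of `N ⊓ L`
  let M : Subgroup N := (N ⊓ L).subgroupOf N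
  have hB : Nat.card (M.map φ) = d := by
    rw [← Subgroup.relIndex_ker, hker, Subgroup.relIndex_subgroupOf inf_le_left,
      ← Subgroup.inf_relIndex_right]
    have h1 : C ⊓ (N ⊓ L) = C ⊓ L := by
      rw [← inf_assoc, inf_eq_left.mpr hCN]
    rw [h1]
    omega
  have hBA : M.map φ ≤ φ.range := Subgroup.map_le_range φ M
  obtain ⟨a, ha⟩ := Subgroup.card_dvd_of_le hBA
  have hA2d : Nat.card φ.range ∣ 2 * d := by
    rw [← hAut]
    exact Subgroup.card_subgroup_dvd_card _
  rw [hB] at ha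
  have hd2 : 2 ≤ d := by omega
  have ha2 : a ∣ 2 := by
    rw [ha] at hA2d
    have h1 : d * a ∣ d * 2 := by rwa [mul_comm d 2]
    exact (Nat.mul_dvd_mul_iff_left (by omega)).mp h1
  have ha12 : a = 1 ∨ a = 2 := (Nat.dvd_prime Nat.prime_two).mp ha2
  rcases ha12 with ha1 | ha2'
  · -- the good case
    have hAB : M.map φ = φ.range :=
      Subgroup.eq_of_le_of_card_ge hBA (by rw [hB, ha, ha1, mul_one])
    apply le_antisymm
    · intro n hn
      have h1 : φ ⟨n, hn⟩ ∈ M.map φ := by
        rw [hAB]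
        exact ⟨_, rfl⟩
      obtain ⟨m, hm, hmn⟩ := h1
      have h2 : m⁻¹ * ⟨n, hn⟩ ∈ φ.ker := by
        rw [MonoidHom.mem_ker, map_mul, map_inv, hmn, inv_mul_cancel]
      rw [hker, Subgroup.mem_subgroupOf] at h2
      have h3 : (m : G) ∈ N ⊓ L := Subgroup.mem_subgroupOf.mp hm
      have h4 : n = (m : G) * ((m : G)⁻¹ * n) := by group
      rw [h4]
      exact mul_mem (Subgroup.mem_sup_left h3) (Subgroup.mem_sup_right h2)
    · exact sup_le inf_le_left hCN
  · -- the bad case: all of `Aut P` is induced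
    exfalso
    have htop : φ.range = ⊤ :=
      Subgroup.eq_top_of_card_eq _ (by rw [ha, ha2', hAut, mul_comm])
    have hconst : ∀ y ∈ (P : Subgroup G), y ≠ 1 → χ y = χ (g0 : G) := by
      intro y hy hy1
      obtain ⟨α, hα⟩ := h66_exists_mulAut hp hP g0 hg0 ⟨y, hy⟩
        (fun h => hy1 (congrArg Subtype.val h))
      have h1 : α ∈ φ.range := by rw [htop]; exact Subgroup.mem_top _
      obtain ⟨n, rfl⟩ := h1
      have h2 : y = (n : G) * (g0 : G) * (n : G)⁻¹ := by
        have := congrArg Subtype.val hα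
        exact this.symm
      rw [h2]
      exact Cfsg.Agent.Lib.Helper78.IsCharacter.isClassFunction hχ _ _
    have h1 := h66_const_on_prime_subgroup hp5 (P : Subgroup G) hP χ hχ hdeg (g0 : G) hconst
    have h2 : (g0 : G) = 1 := hfaith _ h1
    have h3 : ∀ x : (P : Subgroup G), x = 1 := by
      intro x
      have := hg0 x
      have h4 : g0 = 1 := Subtype.ext h2
      rw [h4, Subgroup.zpowers_one_eq_bot, Subgroup.mem_bot] at this
      exact this
    have h4 : Nat.card (P : Subgroup G) = 1 := by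
      rw [Nat.card_eq_one_iff_unique]
      exact ⟨⟨fun a b => by rw [h3 a, h3 b]⟩, ⟨1⟩⟩
    omega

end Cfsg.Agent.Lib.Helper66.S4504
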