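import Mathlib
import Cfsg.Prelude.Def_Blocks
import Cfsg.Prelude.Def_Classical
import Cfsg.Agent.Lib.Helper79.ModP.Defs

/-!
# S4504 module [C-PERM] (helper66)

`|P| = p`, `|Syl_p G| = p + 1`, `L = ⟨P^G⟩`, `N_G(P) = (N_G(P) ⊓ L) C_G(P)`  ⟹  `G = L C_G(L)`.
-/

set_option autoImplicit false
open Cfsg Cfsg.Agent.Lib.Helper79.ModP
universe u

namespace Cfsg.Agent.Lib.Helper66.S4504

/-- Two distinct Sylow `p`-subgroups of order `p` meet trivially. -/
theorem h66_sylow_inf_eq_bot {G : Type u} [Group G] [Finite G] {p : ℕ} [Fact p.Prime]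
    (Q Q' : Sylow p G) (hQ : Nat.card Q = p) (hne : Q ≠ Q') :
    (Q : Subgroup G) ⊓ (Q' : Subgroup G) = ⊥ := by
  have hp : p.Prime := Fact.out
  have hdvd : Nat.card ↥((Q : Subgroup G) ⊓ (Q' : Subgroup G)) ∣ p := by
    have h0 := Subgroup.card_dvd_of_le
      (inf_le_left : (Q : Subgroup G) ⊓ (Q' : Subgroup G) ≤ (Q : Subgroup G))
    rwa [hQ] at h0
  rcases (Nat.dvd_prime hp).mp hdvd with h1 | h1
  · exact Subgroup.card_eq_one.mp h1
  · exfalso
    have h2 : (Q : Subgroup G) ⊓ (Q' : Subgroup G) = (Q : Subgroup G) :=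
      Subgroup.eq_of_le_of_card_ge inf_le_left (by rw [h1, hQ])
    have h3 : (Q : Subgroup G) ≤ (Q' : Subgroup G) := by
      rw [← h2]
      exact inf_le_right
    have h4 : (Q : Subgroup G) = (Q' : Subgroup G) :=
      Subgroup.eq_of_le_of_card_ge h3 (by
        rw [Q'.card_eq_multiplicity, ← Q.card_eq_multiplicity])
    exact hne (Sylow.ext h4)

/-- An element of a Sylow `p`-subgroup `Q` of order `p` fixing another Sylow `p`-subgroup
is trivial. -/
theorem h66_eq_one_of_smul_eq {G : Type u} [Group G] [Finite G] {p : ℕ} [Fact p.Prime]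
    (Q Q' : Sylow p G) (hQ : Nat.card Q = p) (hne : Q ≠ Q') (y : G)
    (hy : y ∈ (Q : Subgroup G)) (hfix : y • Q' = Q') : y = 1 := by
  have h1 : y ∈ (Q : Subgroup G) ⊓ Subgroup.normalizer ((Q' : Subgroup G) : Set G) :=
    ⟨hy, Sylow.smul_eq_iff_mem_normalizer.mp hfix⟩
  have h2 : y ∈ (Q : Subgroup G) ⊓ (Q' : Subgroup G) := by
    rw [← IsPGroup.inf_normalizer_sylow Q.2 Q']
    exact h1
  rw [h66_sylow_inf_eq_bot Q Q' hQ hne] at h2
  exact Subgroup.mem_bot.mp h2

theorem eq_mul_centralizer {G : Type u} [Group G] [Finite G] {p : ℕ} [Fact p.Prime]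
    (P : Sylow p G) (hP : Nat.card P = p) (hn : Nat.card (Sylow p G) = p + 1)
    (L : Subgroup G) (hL : L = Subgroup.normalClosure ((P : Subgroup G) : Set G))
    (hNC : Subgroup.normalizer ((P : Subgroup G) : Set G) =
      (Subgroup.normalizer ((P : Subgroup G) : Set G) ⊓ L) ⊔
        Subgroup.centralizer ((P : Subgroup G) : Set G)) :
    L ⊔ Subgroup.centralizer (L : Set G) = ⊤ := by
  classical
  have hp : p.Prime := Fact.out
  have hPL : (P : Subgroup G) ≤ L := by
    rw [hL]
    exact Subgroup.le_normalClosure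
  have hLn : L.Normal := by
    rw [hL]
    exact Subgroup.normalClosure_normal
  have hfr : Subgroup.normalizer ((P : Subgroup G) : Set G) ⊔ L = ⊤ :=
    Sylow.normalizer_sup_eq_top' P hPL
  have hcard : ∀ Q : Sylow p G, Nat.card Q = p := fun Q => by
    rw [Q.card_eq_multiplicity, ← P.card_eq_multiplicity, hP]
  -- `P` is commutative
  have hcyc : IsCyclic (P : Subgroup G) := isCyclic_of_prime_card hP
  have hPcomm : ∀ a b : G, a ∈ (P : Subgroup G) → b ∈ (P : Subgroup G) → a * b = b * a := by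
    intro a b ha hb
    have := (IsCyclic.isMulCommutative (α := (P : Subgroup G))).is_comm.comm ⟨a, ha⟩ ⟨b, hb⟩
    exact congrArg Subtype.val this
  -- another Sylow subgroup
  have hnt : Nontrivial (Sylow p G) := by
    rw [← Finite.one_lt_card_iff_nontrivial, hn]
    have := hp.two_le
    omega
  obtain ⟨Q0, hQ0⟩ := exists_ne P
  -- `P` is regular on the Sylow subgroups different from `P`
  have hreg : ∀ Q : Sylow p G, Q ≠ P → ∃ y : G, y ∈ (P : Subgroup G) ∧ y • Q0 = Q := by
    let f : ↥(P : Subgroup G) → Sylow p G := fun y => (y : G) • Q0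
    have hf : Function.Injective f := by
      intro a b hab
      have h1 : ((b : G)⁻¹ * (a : G)) • Q0 = Q0 := by
        rw [mul_smul]
        change (b : G)⁻¹ • f a = Q0
        rw [hab]
        change (b : G)⁻¹ • (b : G) • Q0 = Q0
        rw [inv_smul_smul]
      have h2 := h66_eq_one_of_smul_eq P Q0 hP hQ0.symm _
        (mul_mem (inv_mem b.2) a.2) h1
      apply Subtype.ext
      have h3 : (a : G) = (b : G) := by
        have := congrArg (fun t => (b : G) * t) h2
        simpa using this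
      exact h3
    have hsub : Set.range f ⊆ (Set.univ \ {P} : Set (Sylow p G)) := by
      rintro _ ⟨y, rfl⟩
      refine ⟨Set.mem_univ _, ?_⟩
      intro h
      rw [Set.mem_singleton_iff] at h
      apply hQ0
      have h1 : (y : G) • P = P :=
        Sylow.smul_eq_iff_mem_normalizer.mpr (Subgroup.le_normalizer y.2)
      have h2 : (y : G) • Q0 = (y : G) • P := by
        rw [h1]
        exact h
      exact smul_left_cancel _ h2
    have hc1 : (Set.range f).ncard = p := by
      rw [← Set.image_univ, Set.ncard_image_of_injective _ hf, Set.ncard_univ, hP]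
    have hc2 : (Set.univ \ {P} : Set (Sylow p G)).ncard = p := by
      rw [Set.ncard_sdiff_singleton_of_mem (Set.mem_univ _), Set.ncard_univ, hn]
      rfl
    have heq := Set.eq_of_subset_of_ncard_le hsub (by rw [hc1, hc2]) (Set.toFinite _)
    intro Q hQ
    have h1 : Q ∈ (Set.univ \ {P} : Set (Sylow p G)) := ⟨Set.mem_univ _, hQ⟩
    rw [← heq] at h1
    obtain ⟨y, rfl⟩ := h1
    exact ⟨y, y.2, rfl⟩
  -- kernel of the action
  let K : Subgroup G := (MulAction.toPermHom G (Sylow p G)).ker
  have hKmem : ∀ r : G, r ∈ K ↔ ∀ Q : Sylow p G, r • Q = Q := by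
    intro r
    rw [MonoidHom.mem_ker]
    constructor
    · intro h Q
      have := congrArg (fun σ : Equiv.Perm (Sylow p G) => σ Q) h
      exact this
    · intro h
      exact Equiv.ext fun Q => h Q
  have hKn : K.Normal := MonoidHom.normal_ker _
  -- `K` centralizes every Sylow `p`-subgroup
  have hKcent : ∀ r ∈ K, ∀ Q : Sylow p G, ∀ x ∈ (Q : Subgroup G), r * x = x * r := by
    intro r hr Q x hx
    obtain ⟨Q', hQ'⟩ := exists_ne Q
    -- the commutator lies in `Q ⊓ K`
    have h1 : r * x * r⁻¹ * x⁻¹ ∈ (Q : Subgroup G) := by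
      have h2 : r ∈ Subgroup.normalizer ((Q : Subgroup G) : Set G) :=
        Sylow.smul_eq_iff_mem_normalizer.mp ((hKmem r).mp hr Q)
      have h3 : r * x * r⁻¹ ∈ (Q : Subgroup G) :=
        (Subgroup.mem_normalizer_iff.mp h2 x).mp hx
      exact mul_mem h3 (inv_mem hx)
    have h2 : r * x * r⁻¹ * x⁻¹ ∈ K := by
      have h3 : x * r⁻¹ * x⁻¹ ∈ K := hKn.conj_mem _ (inv_mem hr) x
      have h4 : r * x * r⁻¹ * x⁻¹ = r * (x * r⁻¹ * x⁻¹) := by group
      rw [h4]
      exact mul_mem hr h3
    have h3 := h66_eq_one_of_smul_eq Q Q' (hcard Q) hQ'.symm _ h1 ((hKmem _).mp h2 Q')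
    have h4 : r * x = (r * x * r⁻¹ * x⁻¹) * (x * r) := by group
    rw [h4, h3, one_mul]
  -- `K ≤ C_G(L)`
  have hKL : K ≤ Subgroup.centralizer (L : Set G) := by
    intro r hr
    have h1 : L ≤ Subgroup.centralizer ({r} : Set G) := by
      rw [hL, Subgroup.normalClosure]
      rw [Subgroup.closure_le]
      intro a ha
      obtain ⟨b, hb, hba⟩ := Group.mem_conjugatesOfSet_iff.mp ha
      obtain ⟨g, hg⟩ := isConj_iff.mp hba
      -- `a = g b g⁻¹ ∈ g • P`
      have h2 : a ∈ ((g • P : Sylow p G) : Subgroup G) := by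
        rw [Sylow.coe_subgroup_smul, Subgroup.mem_pointwise_smul_iff_inv_smul_mem,
          MulAut.smul_def, ← map_inv, MulAut.conj_apply, ← hg]
        have h3 : g⁻¹ * (g * b * g⁻¹) * g⁻¹⁻¹ = b := by group
        rw [h3]
        exact hb
      rw [SetLike.mem_coe, Subgroup.mem_centralizer_iff]
      intro t ht
      rw [Set.mem_singleton_iff] at ht
      rw [ht]
      exact hKcent r hr _ a h2
    intro a ha
    have := h1 ha
    rw [Subgroup.mem_centralizer_iff] at this
    exact (this r rfl).symm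
  -- the key claim
  have key : Subgroup.centralizer ((P : Subgroup G) : Set G) ≤
      L ⊔ Subgroup.centralizer (L : Set G) := by
    intro c hc
    have hcP : c • P = P :=
      Sylow.smul_eq_iff_mem_normalizer.mpr (Subgroup.centralizer_le_normalizer _ hc)
    have hcQ0 : c • Q0 ≠ P := by
      intro h
      apply hQ0
      have : c • Q0 = c • P := by rw [hcP, h]
      exact smul_left_cancel _ this
    obtain ⟨y, hyP, hy⟩ := hreg _ hcQ0
    have hr : y⁻¹ * c ∈ K := by
      rw [hKmem]
      intro Q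
      have hrQ0 : (y⁻¹ * c) • Q0 = Q0 := by
        rw [mul_smul, ← hy, inv_smul_smul]
      by_cases hQ : Q = P
      · rw [hQ, mul_smul, hcP]
        exact Sylow.smul_eq_iff_mem_normalizer.mpr (Subgroup.le_normalizer (inv_mem hyP))
      · obtain ⟨y', hy'P, rfl⟩ := hreg Q hQ
        have hcomm : (y⁻¹ * c) * y' = y' * (y⁻¹ * c) := by
          have h1 : y' * c = c * y' := hc y' hy'P
          have h2 : y⁻¹ * y' = y' * y⁻¹ := hPcomm _ _ (inv_mem hyP) hy'P
          calc (y⁻¹ * c) * y' = y⁻¹ * (c * y') := by group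
            _ = y⁻¹ * (y' * c) := by rw [h1]
            _ = (y⁻¹ * y') * c := by group
            _ = (y' * y⁻¹) * c := by rw [h2]
            _ = y' * (y⁻¹ * c) := by group
        rw [← mul_smul, hcomm, mul_smul, hrQ0]
    have h1 : c = y * (y⁻¹ * c) := by group
    rw [h1]
    exact mul_mem (Subgroup.mem_sup_left (hPL hyP)) (Subgroup.mem_sup_right (hKL hr))
  rw [eq_top_iff, ← hfr, hNC]
  exact sup_le (sup_le (inf_le_right.trans le_sup_left) key) le_sup_left

end Cfsg.Agent.Lib.Helper66.S4504
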