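import Mathlib
import Cfsg.Prelude.Def_Blocks
import Cfsg.Prelude.Def_Classical
import Cfsg.Agent.Lib.Helper79.ModP.Defs
import Cfsg.Agent.Lib.Helper3.CharIrr

/-!
# S4504 module [C-SCHUR] (helper66)

If the restriction of a faithful character `χ` of `G` to a subgroup `L` is irreducible, then
`C_G(L) ≤ Z(G)`.
-/

set_option autoImplicit false
open Cfsg Cfsg.Agent.Lib.Helper79.ModP
universe u

namespace Cfsg.Agent.Lib.Helper66.S4504

open Representation in
/-- A linear map commuting with a representation whose character has norm one is a scalar. -/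
theorem h66_scalar_of_classInner_self {L : Type*} [Group L] [Fintype L] {n : ℕ}
    (σ : Representation ℂ L (Fin n → ℂ)) (h1 : classInner σ.character σ.character = 1)
    (T : (Fin n → ℂ) →ₗ[ℂ] (Fin n → ℂ)) (hT : ∀ h : L, T ∘ₗ σ h = σ h ∘ₗ T) :
    ∃ ω : ℂ, T = ω • LinearMap.id := by
  rw [Cfsg.Agent.Lib.Helper3.classInner_character_eq_finrank] at h1
  have h2 : Module.finrank ℂ (IntertwiningMap σ σ) = 1 := by exact_mod_cast h1
  let T' : IntertwiningMap σ σ := ⟨T, hT⟩
  by_cases hid : (IntertwiningMap.id σ) = 0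
  · refine ⟨0, ?_⟩
    have h3 : (LinearMap.id : (Fin n → ℂ) →ₗ[ℂ] (Fin n → ℂ)) = 0 := by
      have := congrArg IntertwiningMap.toLinearMap hid
      exact this
    rw [zero_smul]
    calc T = T ∘ₗ LinearMap.id := (LinearMap.comp_id T).symm
      _ = 0 := by rw [h3, LinearMap.comp_zero]
  · obtain ⟨ω, hω⟩ := (finrank_eq_one_iff_of_nonzero' (IntertwiningMap.id σ) hid).mp h2 T'
    refine ⟨ω, ?_⟩
    have := congrArg IntertwiningMap.toLinearMap hω
    rw [IntertwiningMap.toLinearMap_smul] at this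
    exact this.symm

theorem centralizer_le_center {G : Type u} [Group G] [Finite G]
    (χ : G → ℂ) (hχ : IsCharacter G χ) (hfaith : ∀ g : G, χ g = χ 1 → g = 1)
    (L : Subgroup G) (hirr : IsIrrCharacter L (fun h : L => χ h)) :
    Subgroup.centralizer (L : Set G) ≤ Subgroup.center G := by
  classical
  have : Fintype L := Fintype.ofFinite L
  obtain ⟨n, ρ, rfl⟩ := hχ
  -- the restriction of `ρ` to `L`
  let σ : Representation ℂ L (Fin n → ℂ) := ρ.comp L.subtype
  have hσchar : σ.character = fun h : L => ρ.character h := by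
    funext h
    rfl
  have h1 : classInner σ.character σ.character = 1 := by
    rw [hσchar, Cfsg.Agent.Lib.Helper3.classInner_irrCharacter hirr hirr, if_pos rfl]
  intro c hc
  rw [Subgroup.mem_center_iff]
  intro g
  have hcomm : ∀ h : L, ρ c ∘ₗ σ h = σ h ∘ₗ ρ c := by
    intro h
    have h1 : (h : G) * c = c * (h : G) := hc (h : G) h.2
    change ρ c * ρ (h : G) = ρ (h : G) * ρ c
    rw [← map_mul, ← map_mul, h1]
  obtain ⟨ω, hsc⟩ := h66_scalar_of_classInner_self σ h1 (ρ c) hcomm
  have h2 : ρ (c * g) = ρ (g * c) := by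
    rw [map_mul, map_mul, hsc]
    ext v
    simp [Module.End.mul_apply]
  have h3 : ρ (g * c * (c * g)⁻¹) = 1 := by
    rw [map_mul, ← h2, ← map_mul, mul_inv_cancel, map_one]
  have h4 : ρ.character (g * c * (c * g)⁻¹) = ρ.character 1 := by
    change LinearMap.trace ℂ _ (ρ _) = LinearMap.trace ℂ _ (ρ 1)
    rw [h3, (map_one ρ : ρ 1 = 1)]
  have h5 := hfaith _ h4
  exact mul_inv_eq_one.mp h5

end Cfsg.Agent.Lib.Helper66.S4504
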